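import Cfsg.Agent.TISylowThree.Main

/-!
# Burnside transfer and the embedding in `Sym 9`
-/

set_option autoImplicit false
set_option linter.style.haveILetI false

namespace CfsgLib.TISylowThree

universe u

/-- If `H ≅ M`, `T ≤ H` has order `27`, `N(T) = H` and `C(t) ≤ H` for `t ∈ T`, `t ≠ 1`, then
`H = ⊤`. -/
theorem eq_top {G : Type u} [Group G] [Finite G] {H T : Subgroup G} (e : H ≃* M) (hTH : T ≤ H)
    (hT : Nat.card T = 27) (hN : Subgroup.normalizer (T : Set G) = H)
    (hC : ∀ t ∈ T, t ≠ 1 → Subgroup.centralizer ({t} : Set G) ≤ H) : H = ⊤ := by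
  classical
  haveI := Fintype.ofFinite G
  obtain ⟨c, rfl⟩ := exists_setup e hTH hT hN hC
  obtain ⟨l, hl⟩ := c.exists_homs
  set K : Subgroup G := (l 0).ker ⊓ (l 1).ker
  have hKH : ∀ x ∈ K, x ∈ c.H → x ∈ c.T := by
    intro x hx hxH
    refine (c.mem ⟨x, hxH⟩).2 (rot_of_sign _ ?_ ?_) <;> apply Int.cast_injective (α := ℂ)
    · simp [← hl 0 ⟨x, hxH⟩, MonoidHom.mem_ker.1 hx.1]
    · simp [← hl 1 ⟨x, hxH⟩, MonoidHom.mem_ker.1 hx.2]
  have hTK : c.T ≤ K := by
    intro t ht
    have key : ∀ i, l i t = 1 := fun i => Units.ext (by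
      rw [show t = ((⟨t, c.le ht⟩ : c.H) : G) from rfl, hl i]
      have hS : ∀ m : M, m ^ 3 = 1 → S i m = 1 := fun m hm => by
        have h3 := congrArg (S i) hm
        simp only [S, map_pow, map_one, Units.val_one, Units.val_pow_eq_pow_val] at h3
        rcases Int.units_eq_one_or (sgnHom (proj i m)) with h | h
        · simp [S, h]
        · rw [h] at h3; norm_num at h3
      simp [hS _ ((c.mem ⟨t, c.le ht⟩).1 ht)])
    exact ⟨MonoidHom.mem_ker.2 (key 0), MonoidHom.mem_ker.2 (key 1)⟩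
  haveI : Fact (Nat.Prime 3) := ⟨Nat.prime_three⟩
  haveI hKn : K.Normal := Subgroup.normal_inf_normal _ _
  have hTc : IsPGroup 3 c.T := IsPGroup.of_card (n := 3) (by rw [c.card_T]; norm_num)
  -- a Sylow `3`-subgroup of `K`
  obtain ⟨P, hP⟩ := (hTc.comap_subtype (K := K)).exists_le_sylow
  have hTP : (P : Subgroup K).map K.subtype = c.T := by
    set Q := (P : Subgroup K).map K.subtype
    have hle : c.T ≤ Q := fun t ht => ⟨⟨t, hTK ht⟩, hP ht, rfl⟩
    refine le_antisymm ?_ hle
    by_contra hlt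
    have hQ : IsPGroup 3 Q := P.2.map _
    haveI : Group.IsNilpotent Q := hQ.isNilpotent
    have hnc := Group.normalizerCondition_of_isNilpotent (G := Q) (c.T.subgroupOf Q)
      (lt_top_iff_ne_top.2 fun ht => hlt (Subgroup.subgroupOf_eq_top.1 ht))
    refine hnc.2 fun x hx => Subgroup.mem_subgroupOf.2 (hKH x ?_ (c.norm.le ?_))
    · obtain ⟨y, -, hy⟩ := Subgroup.mem_map.1 x.2
      exact hy ▸ y.2
    · rw [Subgroup.mem_normalizer_iff]
      intro y
      constructor
      · intro hy
        exact (Subgroup.mem_normalizer_iff.1 hx ⟨y, hle hy⟩).1 hy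
      · intro hy
        have hyQ : y ∈ Q := by
          have := Q.mul_mem (Q.mul_mem (Q.inv_mem x.2) (hle hy)) x.2
          simpa [mul_assoc] using this
        exact (Subgroup.mem_normalizer_iff.1 hx ⟨y, hyQ⟩).2 hy
  have hPc : Subgroup.normalizer ((P : Subgroup K) : Set K) ≤
      Subgroup.centralizer ((P : Subgroup K) : Set K) := by
    intro x hx
    have hxT : (x : G) ∈ c.T := by
      refine hKH _ x.2 (c.norm.le ?_)
      rw [← hTP]
      exact Subgroup.le_normalizer_map _ ⟨x, hx, rfl⟩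
    refine Subgroup.mem_centralizer_iff.2 fun y hy => Subtype.ext ?_
    exact c.comm_T (hTP.le ⟨y, hy, rfl⟩) hxT
  have hcompl := MonoidHom.ker_transferSylow_isComplement' P hPc
  set N := (MonoidHom.transferSylow P hPc).ker
  set W := N.map K.subtype
  have hWK : W ≤ K := Subgroup.map_subtype_le _
  have hPcard : Nat.card (P : Subgroup K) = 27 := by
    rw [← Subgroup.card_map_of_injective K.subtype_injective, hTP, c.card_T]
  have hcop : (Nat.card c.T).Coprime (Nat.card W) := by
    rw [c.card_T, show (27 : ℕ) = 3 ^ 3 by norm_num]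
    refine Nat.Coprime.pow_left _ ((Nat.Prime.coprime_iff_not_dvd Nat.prime_three).2 ?_)
    rw [Subgroup.card_map_of_injective K.subtype_injective]
    exact MonoidHom.not_dvd_card_ker_transferSylow P hPc
  have hTW : c.T ≤ Subgroup.normalizer (W : Set G) := by
    refine hTK.trans (le_trans (le_of_eq ?_) (Subgroup.le_normalizer_map _))
    rw [Subgroup.normalizer_eq_top, ← MonoidHom.range_eq_map, Subgroup.range_subtype]
  haveI hmc : IsMulCommutative c.T := ⟨⟨fun a b => Subtype.ext (c.comm_T a.2 b.2)⟩⟩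
  have hnc : ¬ IsCyclic c.T := by
    intro hcy
    obtain ⟨g, hg⟩ := hcy.exists_generator
    have hg3 : g ^ 3 = 1 := by
      have := (c.mem ⟨g, c.le g.2⟩).1 g.2
      rw [← map_pow, map_eq_one_iff c.e c.e.injective] at this
      exact Subtype.ext (by simpa using congrArg Subtype.val this)
    have h1 : Nat.card c.T ≤ 3 := by
      rw [← orderOf_eq_card_of_forall_mem_zpowers hg]
      exact Nat.le_of_dvd (by norm_num) (orderOf_dvd_of_pow_eq_one hg3)
    rw [c.card_T] at h1
    omega
  have hW : W = ⊥ := by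
    rw [eq_bot_iff]
    refine Coprime.le_of_forall_inf_centralizer_le hnc hTW hcop fun a ha ha1 => ?_
    intro x hx
    have hxT : x ∈ c.T := hKH x (hWK hx.1) (c.cent a ha ha1 hx.2)
    exact Subgroup.disjoint_def.1 (disjoint_iff.2 (Subgroup.inf_eq_bot_of_coprime hcop)) hxT hx.1
  have hKT : K = c.T := by
    refine le_antisymm (fun x hx => ?_) hTK
    have hN' : N = ⊥ := (Subgroup.map_eq_bot_iff_of_injective _ K.subtype_injective).1 hW
    rw [hN'] at hcompl
    rw [← hTP]
    exact ⟨⟨x, hx⟩, by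
      rw [Subgroup.isComplement'_bot_left.1 hcompl]; trivial, rfl⟩
  have h := c.norm
  rw [← hKT, Subgroup.normalizer_eq_top] at h
  exact h.symm

/-- The permutations of `{0, …, 8}` given by the triples. -/
def blockPerm : M →* Equiv.Perm (Fin 9) where
  toFun m := finProdFinEquiv.permCongr
    (Equiv.prodCongrRight fun k : Fin 3 => (act (proj k m) : Equiv.Perm (Fin 3)))
  map_one' := by
    refine Equiv.ext fun z => ?_
    obtain ⟨⟨k, j⟩, rfl⟩ := finProdFinEquiv.surjective z
    simp [Equiv.permCongr_apply, Equiv.prodCongrRight]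
    rfl
  map_mul' x y := by
    refine Equiv.ext fun z => ?_
    obtain ⟨⟨k, j⟩, rfl⟩ := finProdFinEquiv.surjective z
    simp [Equiv.permCongr_apply, Equiv.prodCongrRight]
    rfl

set_option maxRecDepth 40000

theorem blockPerm_ker : ∀ m : M, blockPerm m = 1 → m = 1 := by decide +kernel

/-- The five generators. -/
def gens : Fin 5 → Equiv.Perm (Fin 9) :=
  ![Equiv.swap (0 : Fin 9) 1 * Equiv.swap 1 2, Equiv.swap (3 : Fin 9) 4 * Equiv.swap 4 5,
    Equiv.swap (6 : Fin 9) 7 * Equiv.swap 7 8, Equiv.swap (0 : Fin 9) 1 * Equiv.swap 3 4,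
    Equiv.swap (0 : Fin 9) 1 * Equiv.swap 6 7]

theorem gens_mem : ∀ i : Fin 5, ∃ m : M, blockPerm m = gens i := by decide +kernel

theorem mem_gens : ∀ m : M, ∃ a b c : Fin 3, ∃ d e : Fin 2,
    blockPerm m = gens 0 ^ (a : ℕ) * gens 1 ^ (b : ℕ) * gens 2 ^ (c : ℕ) * gens 3 ^ (d : ℕ) *
      gens 4 ^ (e : ℕ) := by
  decide +kernel

theorem range_blockPerm : blockPerm.range = Subgroup.closure
    ({Equiv.swap (0 : Fin 9) 1 * Equiv.swap 1 2, Equiv.swap (3 : Fin 9) 4 * Equiv.swap 4 5,
      Equiv.swap (6 : Fin 9) 7 * Equiv.swap 7 8, Equiv.swap (0 : Fin 9) 1 * Equiv.swap 3 4,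
      Equiv.swap (0 : Fin 9) 1 * Equiv.swap 6 7} : Set (Equiv.Perm (Fin 9))) := by
  refine le_antisymm ?_ ((Subgroup.closure_le _).2 ?_)
  · rintro _ ⟨m, rfl⟩
    obtain ⟨a, b, c, d, e, h⟩ := mem_gens m
    rw [h]
    refine mul_mem (mul_mem (mul_mem (mul_mem ?_ ?_) ?_) ?_) ?_ <;>
      exact pow_mem (Subgroup.subset_closure (by simp [gens])) _
  · intro x hx
    simp only [Set.mem_insert_iff, Set.mem_singleton_iff] at hx
    rcases hx with rfl | rfl | rfl | rfl | rfl
    · exact gens_mem 0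
    · exact gens_mem 1
    · exact gens_mem 2
    · exact gens_mem 3
    · exact gens_mem 4

theorem blockPerm_injective : Function.Injective blockPerm :=
  (injective_iff_map_eq_one _).2 blockPerm_ker

end CfsgLib.TISylowThree
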