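import Mathlib

/-!
# Signed decomposition of small-norm integer vectors

The pattern of the induced generalised characters for a group of order `108`: four vectors of norm
two with disjoint supports, and vectors having inner product `0` or `1` with each.
-/

set_option autoImplicit false

namespace CfsgLib.TISylowThree

open Finset

variable {ι : Type*} [Fintype ι]

theorem exists_unique_one [DecidableEq ι] (g : ι → ℤ) (h0 : ∀ i, 0 ≤ g i) (h : ∑ i, g i = 1) :
    ∃ z, g z = 1 ∧ ∀ i, i ≠ z → g i = 0 := by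
  obtain ⟨z, -, hz⟩ := Finset.exists_ne_zero_of_sum_ne_zero (h.trans_ne one_ne_zero)
  have h1 := Finset.single_le_sum (f := g) (fun i _ => h0 i) (Finset.mem_univ z)
  have hz1 : g z = 1 := by have := h0 z; omega
  refine ⟨z, hz1, fun i hi => ?_⟩
  have h2 := Finset.sum_le_sum_of_subset_of_nonneg (f := g) (Finset.subset_univ {z, i})
    fun j _ _ => h0 j
  rw [Finset.sum_pair hi.symm, h] at h2
  have := h0 i; omega

theorem sum_mul_two {v : ι → ℤ} {p q : ι} (hpq : p ≠ q) (h : ∀ i, i ≠ p → i ≠ q → v i = 0)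
    (g : ι → ℤ) : ∑ i, v i * g i = v p * g p + v q * g q := by
  classical
  rw [← Finset.sum_pair (f := fun i => v i * g i) hpq]
  refine (Finset.sum_subset (Finset.subset_univ _) fun i _ hi => ?_).symm
  simp only [Finset.mem_insert, Finset.mem_singleton, not_or] at hi
  simp [h i hi.1 hi.2]

/-- A vector of norm two: two entries `±1`. -/
structure IsPair (v : ι → ℤ) (p q : ι) : Prop where
  ne : p ≠ q
  left : v p = 1 ∨ v p = -1
  right : v q = 1 ∨ v q = -1
  zero : ∀ i, i ≠ p → i ≠ q → v i = 0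

theorem exists_pair (v : ι → ℤ) (h : ∑ i, v i ^ 2 = 2) : ∃ p q, IsPair v p q := by
  classical
  obtain ⟨p, -, hp⟩ := Finset.exists_ne_zero_of_sum_ne_zero (h.trans_ne two_ne_zero)
  have hle := Finset.single_le_sum (f := fun i => v i ^ 2) (fun i _ => sq_nonneg _) (Finset.mem_univ p)
  simp only [h] at hle
  have h2 : v p ≠ 0 := fun e => hp (by simp [e])
  have hlo : -1 ≤ v p := by nlinarith
  have hhi : v p ≤ 1 := by nlinarith
  have hp1 : v p = 1 ∨ v p = -1 := by omega
  have hpsq : v p ^ 2 = 1 := by rcases hp1 with e | e <;> simp [e]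
  obtain ⟨q, hq, hrest⟩ := exists_unique_one (fun i => if i = p then 0 else v i ^ 2)
    (fun i => by split_ifs <;> positivity) (by
      have e : ∀ i, (if i = p then 0 else v i ^ 2) = v i ^ 2 - (if i = p then v p ^ 2 else 0) :=
        fun i => by by_cases hi : i = p <;> simp [hi]
      simp only [e, Finset.sum_sub_distrib, h, Finset.sum_ite_eq', Finset.mem_univ, if_true, hpsq]
      norm_num)
  have hqp : q ≠ p := fun e => by simp [e] at hq
  simp only [hqp, if_false] at hq
  refine ⟨p, q, hqp.symm, hp1, sq_eq_one_iff.1 hq, fun i hip hiq => ?_⟩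
  simpa [hip] using hrest i hiq

/-- Orthogonal pairs with integral relations have disjoint supports. -/
theorem disjoint_arith {u v u' v' a c σ σ' : ℤ} (hu : u = 1 ∨ u = -1) (hv : v = 1 ∨ v = -1)
    (hu' : u' = 1 ∨ u' = -1) (hv' : v' = 1 ∨ v' = -1) (ha : a ≠ 0) (hc : c ≠ 0)
    (h0 : u * u' + v * v' = 0) (h1 : u * a + v * c = σ) (h2 : u' * a + v' * c = σ')
    (hσ : σ = 0 ∨ σ = 1) (hσ' : σ' = 0 ∨ σ' = 1) (hne : σ = 1 ∨ σ' = 1) : False := by
  rcases hu with rfl | rfl <;> rcases hv with rfl | rfl <;> rcases hu' with rfl | rfl <;>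
    rcases hv' with rfl | rfl <;> omega

theorem IsPair.disjoint {v w : ι → ℤ} {p q p' q' : ι} (hv : IsPair v p q) (hw : IsPair w p' q')
    (n : ι → ℤ) (hn : ∀ i, n i ≠ 0) {σ σ' : ℤ} (h0 : ∑ i, v i * w i = 0)
    (h1 : ∑ i, v i * n i = σ) (h2 : ∑ i, w i * n i = σ')
    (hσ : σ = 0 ∨ σ = 1) (hσ' : σ' = 0 ∨ σ' = 1) (hne : σ = 1 ∨ σ' = 1) :
    w p = 0 ∧ w q = 0 := by
  rw [sum_mul_two hv.ne hv.zero] at h0 h1
  by_cases hp : w p = 0
  · rw [hp, mul_zero, zero_add] at h0
    exact ⟨hp, (mul_eq_zero.1 h0).resolve_left fun h => by rcases hv.right with e | e <;> omega⟩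
  exfalso
  have hq : w q ≠ 0 := fun h => hp (by
    rw [h, mul_zero, add_zero] at h0
    exact (mul_eq_zero.1 h0).resolve_left fun h => by rcases hv.left with e | e <;> omega)
  have hp' : p = p' ∨ p = q' := by
    by_contra h; rw [not_or] at h; exact hp (hw.zero p h.1 h.2)
  have hq' : q = p' ∨ q = q' := by
    by_contra h; rw [not_or] at h; exact hq (hw.zero q h.1 h.2)
  obtain ⟨rfl, rfl⟩ | ⟨rfl, rfl⟩ : (p = p' ∧ q = q') ∨ (p = q' ∧ q = p') := by
    rcases hp' with e | e <;> rcases hq' with e' | e'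
    · exact absurd (e.trans e'.symm) hv.ne
    · exact Or.inl ⟨e, e'⟩
    · exact Or.inr ⟨e, e'⟩
    · exact absurd (e.trans e'.symm) hv.ne
  · rw [sum_mul_two hw.ne hw.zero] at h2
    exact disjoint_arith hv.left hv.right hw.left hw.right (hn p) (hn q) h0 h1 h2 hσ hσ' hne
  · rw [sum_mul_two hw.ne hw.zero, add_comm] at h2
    exact disjoint_arith hv.left hv.right hw.right hw.left (hn p) (hn q) h0 h1 h2 hσ hσ' hne

theorem IsPair.swap {v : ι → ℤ} {p q : ι} (h : IsPair v p q) : IsPair v q p :=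
  ⟨h.ne.symm, h.right, h.left, fun i h1 h2 => h.zero i h2 h1⟩

theorem one_le_of_sum_one {s t a c : ℤ} (h : s * a + t * c = 1) : 1 ≤ a ^ 2 + c ^ 2 := by
  by_contra hlt
  have ha : a = 0 := by nlinarith [sq_nonneg a, sq_nonneg c]
  have hc : c = 0 := by nlinarith [sq_nonneg a, sq_nonneg c]
  simp [ha, hc] at h

theorem choose_one {s t a c : ℤ} (hs : s = 1 ∨ s = -1) (ht : t = 1 ∨ t = -1)
    (h : s * a + t * c = 1) (hle : a ^ 2 + c ^ 2 ≤ 2) : (a = s ∧ c = 0) ∨ (a = 0 ∧ c = t) := by
  have ha : -1 ≤ a := by nlinarith [sq_nonneg c]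
  have ha' : a ≤ 1 := by nlinarith [sq_nonneg c]
  have hc : -1 ≤ c := by nlinarith [sq_nonneg a]
  have hc' : c ≤ 1 := by nlinarith [sq_nonneg a]
  rcases hs with rfl | rfl <;> rcases ht with rfl | rfl <;> omega

theorem both_zero {s t a c : ℤ} (hs : s = 1 ∨ s = -1) (ht : t = 1 ∨ t = -1)
    (h : s * a + t * c = 0) (hle : a ^ 2 + c ^ 2 ≤ 1) : a = 0 ∧ c = 0 := by
  have hac : a = c ∨ a = -c := by rcases hs with rfl | rfl <;> rcases ht with rfl | rfl <;> omega
  rcases hac with rfl | rfl <;> constructor <;> nlinarith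

/-- A signed unit vector. -/
def unit [DecidableEq ι] (f : ι) (s : ℤ) : ι → ℤ := Pi.single f s

theorem sum_unit [DecidableEq ι] {R : Type*} [CommRing R] (f : ι) (s : ℤ) (L : ι → R) :
    ∑ i, (unit f s i : R) * L i = (s : R) * L f := by
  rw [Finset.sum_eq_single f (fun i _ hi => by simp [unit, hi]) (by simp)]
  simp [unit]

/-- Pairs with disjoint supports. -/
structure Frame (B : Fin 4 → ι → ℤ) (f e : Fin 4 → ι) : Prop where
  pair : ∀ i, IsPair (B i) (f i) (e i)
  dis : ∀ i j, i ≠ j → B j (f i) = 0 ∧ B j (e i) = 0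

namespace Frame

variable {B : Fin 4 → ι → ℤ} {f e : Fin 4 → ι} (F : Frame B f e)
include F

theorem cross {i j : Fin 4} (h : i ≠ j) : f i ≠ f j ∧ f i ≠ e j ∧ e i ≠ f j ∧ e i ≠ e j := by
  obtain ⟨h1, h2⟩ := F.dis i j h
  have hl : B j (f j) ≠ 0 := by rcases (F.pair j).left with e | e <;> omega
  have hr : B j (e j) ≠ 0 := by rcases (F.pair j).right with e | e <;> omega
  exact ⟨fun he => hl (he ▸ h1), fun he => hr (he ▸ h1), fun he => hl (he ▸ h2),
    fun he => hr (he ▸ h2)⟩

theorem injective : Function.Injective fun x : Fin 4 × Bool => if x.2 then f x.1 else e x.1 := by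
  rintro ⟨i, a⟩ ⟨j, c⟩ h
  by_cases hij : i = j
  · subst hij
    have := (F.pair i).ne
    cases a <;> cases c <;> simp_all
  · obtain ⟨h1, h2, h3, h4⟩ := F.cross hij
    cases a <;> cases c <;> simp_all

theorem sum_le (g : ι → ℤ) (hg : ∀ x, 0 ≤ g x) (h : ι → ℤ) (hh : ∀ x, 0 ≤ h x) (x : ι)
    (hx : ∀ i, x ≠ f i ∧ x ≠ e i) :
    ∑ i, (g (f i) + g (e i)) + g x ≤ ∑ y, g y := by
  classical
  set P : Fin 4 × Bool ↪ ι := ⟨_, F.injective⟩
  have hnot : x ∉ Finset.univ.map P := by
    simp only [Finset.mem_map, Finset.mem_univ, true_and, not_exists]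
    rintro ⟨i, a⟩ ha
    cases a
    · exact (hx i).2 ha.symm
    · exact (hx i).1 ha.symm
  have := Finset.sum_le_sum_of_subset_of_nonneg (f := g)
    (Finset.subset_univ (insert x (Finset.univ.map P))) fun y _ _ => hg y
  rw [Finset.sum_insert hnot, Finset.sum_map, Fintype.sum_prod_type] at this
  simp only [Fintype.sum_bool, P, Function.Embedding.coeFn_mk, if_true, Bool.false_eq_true,
    if_false] at this
  linarith

theorem sum_le' (g : ι → ℤ) (hg : ∀ x, 0 ≤ g x) : ∑ i, (g (f i) + g (e i)) ≤ ∑ y, g y := by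
  classical
  set P : Fin 4 × Bool ↪ ι := ⟨_, F.injective⟩
  have := Finset.sum_le_sum_of_subset_of_nonneg (f := g)
    (Finset.subset_univ (Finset.univ.map P)) fun y _ _ => hg y
  rw [Finset.sum_map, Fintype.sum_prod_type] at this
  simp only [Fintype.sum_bool, P, Function.Embedding.coeFn_mk, if_true, Bool.false_eq_true,
    if_false] at this
  exact this

end Frame

/-- The shape of the decomposition. -/
theorem exists_shape [DecidableEq ι] (n : ι → ℤ) (hn : ∀ i, n i ≠ 0) (b : Fin 3 → ι → ℤ)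
    (hb : ∀ i, ∑ x, b i x ^ 2 = 2) (hbb : ∀ i j, i ≠ j → ∑ x, b i x * b j x = 0)
    (hbn : ∀ i, ∑ x, n x * b i x = 1) (y y' : ι → ℤ) (hy : ∑ x, y x ^ 2 = 4)
    (hy' : ∑ x, y' x ^ 2 = 4) (hyy : ∑ x, y x * y' x = 3) (hyn : ∑ x, n x * y x = 1)
    (hyn' : ∑ x, n x * y' x = 1) (hby : ∀ i, ∑ x, b i x * y x = 1)
    (hby' : ∀ i, ∑ x, b i x * y' x = 1) :
    ∃ (f e : Fin 3 → ι) (s t : Fin 3 → ℤ) (p : ι) (w : ℤ),
      (∀ i, s i = 1 ∨ s i = -1) ∧ (∀ i, t i = 1 ∨ t i = -1) ∧ (w = 1 ∨ w = -1) ∧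
      (∀ i, b i = unit (f i) (s i) + unit (e i) (t i)) ∧
      y = unit (f 0) (s 0) + unit (f 1) (s 1) + unit (f 2) (s 2) + unit p w ∧
      (∀ i j, i ≠ j → b i (f j) = 0) ∧ (∀ i, b i (f i) = s i) ∧ (∀ i, y (f i) = s i) ∧
      ∀ a : ι → ℤ, ∀ i j k : Fin 3, i ≠ j → i ≠ k → j ≠ k → ∑ x, a x ^ 2 = 3 →
        ∑ x, a x * b i x = 1 → ∑ x, a x * b j x = 1 → ∑ x, a x * b k x = 0 →
        ∑ x, a x * y x = 2 → ∑ x, a x * y' x = 2 →
        ∃ (z : ι) (u : ℤ), (u = 1 ∨ u = -1) ∧
          a = unit (f i) (s i) + unit (f j) (s j) + unit z u := by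
  set d : ι → ℤ := fun x => y x - y' x
  have hdd : ∑ x, d x ^ 2 = 2 := by
    have e : ∀ x, d x ^ 2 = y x ^ 2 + y' x ^ 2 - 2 * (y x * y' x) := fun x => by
      simp only [d]; ring
    simp only [e, Finset.sum_sub_distrib, Finset.sum_add_distrib, ← Finset.mul_sum, hy, hy', hyy]
    norm_num
  have hdot : ∀ v : ι → ℤ, ∑ x, v x * d x = ∑ x, v x * y x - ∑ x, v x * y' x := fun v => by
    rw [← Finset.sum_sub_distrib]
    exact Finset.sum_congr rfl fun x _ => by simp only [d]; ring
  set B : Fin 4 → ι → ℤ := Fin.snoc b d with hBdef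
  have hBc : ∀ i : Fin 3, B i.castSucc = b i := fun i => Fin.snoc_castSucc _ _ _
  have hBl : B (Fin.last 3) = d := Fin.snoc_last _ _
  have hB2 : ∀ i, ∑ x, B i x ^ 2 = 2 := fun i => by
    refine Fin.lastCases ?_ (fun i => ?_) i
    · rw [hBl]; exact hdd
    · rw [hBc]; exact hb i
  have hBy : ∀ i, ∑ x, B i x * y x = 1 := fun i => by
    refine Fin.lastCases ?_ (fun i => ?_) i
    · rw [hBl, Finset.sum_congr rfl fun x _ => mul_comm (d x) (y x), hdot]
      simp only [← sq, hy, hyy]
      norm_num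
    · rw [hBc]; exact hby i
  have hBn : ∀ i, ∑ x, B i x * n x = if i = Fin.last 3 then 0 else 1 := fun i => by
    refine Fin.lastCases ?_ (fun i => ?_) i
    · rw [if_pos rfl, hBl, Finset.sum_congr rfl fun x _ => mul_comm (d x) (n x), hdot, hyn, hyn']
      norm_num
    · rw [if_neg (Fin.castSucc_lt_last i).ne, hBc,
        Finset.sum_congr rfl fun x _ => mul_comm (b i x) (n x)]
      exact hbn i
  have hBB : ∀ i j, i ≠ j → ∑ x, B i x * B j x = 0 := by
    intro i
    refine Fin.lastCases ?_ (fun i => ?_) i <;> intro j <;>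
      refine Fin.lastCases ?_ (fun j => ?_) j <;> intro hij
    · exact absurd rfl hij
    · rw [hBl, hBc, Finset.sum_congr rfl fun x _ => mul_comm (d x) (b j x), hdot, hby, hby', sub_self]
    · rw [hBl, hBc, hdot, hby, hby', sub_self]
    · rw [hBc, hBc]; exact hbb i j fun h => hij (by rw [h])
  choose f₀ e₀ hpair using fun i => exists_pair (B i) (hB2 i)
  have hdis : ∀ i j, i ≠ j → B j (f₀ i) = 0 ∧ B j (e₀ i) = 0 := fun i j hij =>
    (hpair i).disjoint (hpair j) n hn (hBB i j hij) (hBn i) (hBn j)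
      (by split_ifs <;> simp) (by split_ifs <;> simp) (by
        by_cases hi : i = Fin.last 3
        · exact Or.inr (if_neg fun hj => hij (hi.trans hj.symm))
        · exact Or.inl (if_neg hi))
  have F₀ : Frame B f₀ e₀ := ⟨hpair, hdis⟩
  have hprod : ∀ i, B i (f₀ i) * y (f₀ i) + B i (e₀ i) * y (e₀ i) = 1 := fun i => by
    rw [← sum_mul_two (hpair i).ne (hpair i).zero]; exact hBy i
  have hbudget := F₀.sum_le' (fun x => y x ^ 2) fun x => sq_nonneg _
  rw [hy, Fin.sum_univ_four] at hbudget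
  have l0 := one_le_of_sum_one (hprod 0)
  have l1 := one_le_of_sum_one (hprod 1)
  have l2 := one_le_of_sum_one (hprod 2)
  have l3 := one_le_of_sum_one (hprod 3)
  have hchoice : ∀ i, (y (f₀ i) = B i (f₀ i) ∧ y (e₀ i) = 0) ∨
      (y (f₀ i) = 0 ∧ y (e₀ i) = B i (e₀ i)) := fun i => by
    refine choose_one (hpair i).left (hpair i).right (hprod i) ?_
    fin_cases i <;> simp only [Fin.zero_eta, Fin.mk_one, Fin.reduceFinMk] <;> linarith
  have hex : ∀ i, ∃ f e, IsPair (B i) f e ∧ (∀ j, j ≠ i → B j f = 0 ∧ B j e = 0) ∧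
      y f = B i f ∧ y e = 0 := fun i => by
    rcases hchoice i with h | h
    · exact ⟨_, _, hpair i, fun j hj => hdis i j hj.symm, h.1, h.2⟩
    · exact ⟨_, _, (hpair i).swap, fun j hj => (hdis i j hj.symm).symm, h.2, h.1⟩
  choose f e hp hd' hyf hye using hex
  have F : Frame B f e := ⟨hp, fun i j hij => hd' i j hij.symm⟩
  have hsq : ∀ i, B i (f i) ^ 2 = 1 := fun i => by rcases (hp i).left with h | h <;> simp [h]
  have hout : ∀ x, (∀ i, x ≠ f i ∧ x ≠ e i) → y x = 0 := by
    intro x hx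
    have h := F.sum_le (fun x => y x ^ 2) (fun x => sq_nonneg _) (fun _ => 0) (fun _ => le_rfl) x hx
    simp only [hy, hyf, hye, hsq] at h
    norm_num at h
    nlinarith [sq_nonneg (y x)]
  set c : Fin 3 → Fin 4 := Fin.castSucc
  have hc : Function.Injective c := Fin.castSucc_injective 3
  refine ⟨fun i => f (c i), fun i => e (c i), fun i => B (c i) (f (c i)),
    fun i => B (c i) (e (c i)), f (Fin.last 3), B (Fin.last 3) (f (Fin.last 3)),
    fun i => (hp _).left, fun i => (hp _).right, (hp _).left, fun i => ?_, ?_, fun i j hij => ?_,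
    fun i => congrFun (hBc i).symm _, fun i => hyf _, ?_⟩
  · funext x
    rw [← hBc i]
    by_cases h1 : x = f (c i)
    · subst h1; simp [unit, (hp (c i)).ne, c]
    by_cases h2 : x = e (c i)
    · subst h2; simp [unit, (hp (c i)).ne.symm, c]
    rw [(hp (c i)).zero x h1 h2]
    simp [unit, h1, h2]
  · funext x
    by_cases hx : ∃ i, x = f i ∨ x = e i
    · obtain ⟨i, h | h⟩ := hx <;> subst h
      · have cr : ∀ i j : Fin 4, i ≠ j → f i ≠ f j := fun i j hj => (F.cross hj).1
        rw [hyf]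
        fin_cases i <;>
          simp [unit, c, cr 0 1 (by decide), cr 0 2 (by decide), cr 0 3 (by decide),
            cr 1 0 (by decide), cr 1 2 (by decide), cr 1 3 (by decide), cr 2 0 (by decide),
            cr 2 1 (by decide), cr 2 3 (by decide), cr 3 0 (by decide), cr 3 1 (by decide),
            cr 3 2 (by decide)]
      · have hne : ∀ j, e i ≠ f j := fun j => by
          by_cases hij : i = j
          · subst hij; exact (hp i).ne.symm
          · exact (F.cross hij).2.2.1
        simp [unit, c, hne, hye]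
    · push Not at hx
      simp [unit, c, hout x hx, fun j => (hx j).1]
  · rw [← hBc i]; exact (F.dis (c j) (c i) fun h => hij (hc h).symm).1
  intro a i j k hij hik hjk ha hi hj hk hay hay'
  have hperm : ∀ g : Fin 3 → ℤ, g 0 + g 1 + g 2 = g i + g j + g k := by
    intro g
    fin_cases i <;> fin_cases j <;> fin_cases k <;>
      simp only [Fin.zero_eta, Fin.mk_one, Fin.reduceFinMk] at * <;> first | omega | contradiction
  have hp2 : ∀ l, ∑ x, a x * B l x = B l (f l) * a (f l) + B l (e l) * a (e l) := fun l => by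
    rw [Finset.sum_congr rfl fun x _ => mul_comm (a x) (B l x), sum_mul_two (hp l).ne (hp l).zero]
  have hi' : B (c i) (f (c i)) * a (f (c i)) + B (c i) (e (c i)) * a (e (c i)) = 1 := by
    rw [← hp2, hBc]; exact hi
  have hj' : B (c j) (f (c j)) * a (f (c j)) + B (c j) (e (c j)) * a (e (c j)) = 1 := by
    rw [← hp2, hBc]; exact hj
  have hk' : B (c k) (f (c k)) * a (f (c k)) + B (c k) (e (c k)) * a (e (c k)) = 0 := by
    rw [← hp2, hBc]; exact hk
  have h3' : B (Fin.last 3) (f (Fin.last 3)) * a (f (Fin.last 3)) +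
      B (Fin.last 3) (e (Fin.last 3)) * a (e (Fin.last 3)) = 0 := by
    rw [← hp2, hBl, hdot, hay, hay', sub_self]
  have hA := F.sum_le' (fun x => a x ^ 2) fun x => sq_nonneg _
  rw [ha, Fin.sum_univ_castSucc, Fin.sum_univ_three,
    hperm fun l => a (f (c l)) ^ 2 + a (e (c l)) ^ 2] at hA
  have li := one_le_of_sum_one hi'
  have lj := one_le_of_sum_one hj'
  have nl := add_nonneg (sq_nonneg (a (f (Fin.last 3)))) (sq_nonneg (a (e (Fin.last 3))))
  have nk := add_nonneg (sq_nonneg (a (f (c k)))) (sq_nonneg (a (e (c k))))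
  obtain ⟨z1, z2⟩ := both_zero (hp _).left (hp _).right h3' (by linarith)
  obtain ⟨z3, z4⟩ := both_zero (hp _).left (hp _).right hk' (by linarith)
  have ci := choose_one (hp _).left (hp _).right hi' (by linarith)
  have cj := choose_one (hp _).left (hp _).right hj' (by linarith)
  have hval : ∑ x, a x * y x = ∑ l, (a (f l) * y (f l) + a (e l) * y (e l)) := by
    rw [← Finset.sum_subset (Finset.subset_univ (Finset.univ.map ⟨_, F.injective⟩))
        fun x _ hx => ?_, Finset.sum_map, Fintype.sum_prod_type]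
    · simp [Fintype.sum_bool]
    · rw [hout x fun l => ⟨fun h => hx (Finset.mem_map.2 ⟨(l, true), Finset.mem_univ _, by simp [h]⟩),
        fun h => hx (Finset.mem_map.2 ⟨(l, false), Finset.mem_univ _, by simp [h]⟩)⟩, mul_zero]
  rw [hval] at hay
  simp only [hyf, hye, mul_zero, add_zero] at hay
  rw [Fin.sum_univ_castSucc, Fin.sum_univ_three] at hay
  have hP2 := hperm fun l => a (f (c l)) * B (c l) (f (c l))
  simp only [c] at hP2 z3 ci cj
  rw [hP2, z1, z3, zero_mul, zero_mul, add_zero, add_zero] at hay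
  have hii : a (f (c i)) = B (c i) (f (c i)) ∧ a (e (c i)) = 0 := by
    refine ci.resolve_right fun h => ?_
    rcases cj with g | g
    · rw [h.1, g.1, zero_mul, zero_add, ← sq, hsq] at hay; omega
    · rw [h.1, g.1] at hay; simp at hay
  have hjj : a (f (c j)) = B (c j) (f (c j)) ∧ a (e (c j)) = 0 := by
    refine cj.resolve_right fun h => ?_
    rw [hii.1, h.1, zero_mul, add_zero, ← sq, hsq] at hay
    omega
  have hfij : f (c i) ≠ f (c j) := (F.cross fun h => hij (hc h)).1
  obtain ⟨z, hz, hz0⟩ := exists_unique_one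
    (fun x => if x = f (c i) ∨ x = f (c j) then 0 else a x ^ 2)
    (fun x => by split_ifs <;> positivity) (by
      have e : ∀ x, (if x = f (c i) ∨ x = f (c j) then 0 else a x ^ 2) =
          a x ^ 2 - (if x = f (c i) then a (f (c i)) ^ 2 else 0) -
            (if x = f (c j) then a (f (c j)) ^ 2 else 0) :=
        fun x => by
          by_cases h1 : x = f (c i)
          · subst h1; simp [hfij]
          · by_cases h2 : x = f (c j)
            · subst h2; rw [if_pos (Or.inr rfl), if_neg h1, if_pos rfl]; ring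
            · simp [h1, h2]
      simp only [e, Finset.sum_sub_distrib, ha, Finset.sum_ite_eq', Finset.mem_univ, if_true,
        hii.1, hjj.1, hsq]
      norm_num)
  have hzf : z ≠ f (c i) ∧ z ≠ f (c j) := by
    constructor <;> intro h <;> simp [h] at hz
  refine ⟨z, a z, sq_eq_one_iff.1 (by simpa [hzf.1, hzf.2] using hz), funext fun x => ?_⟩
  by_cases h1 : x = f (c i)
  · subst h1; simp [unit, hii.1, hfij, Ne.symm hzf.1]
  by_cases h2 : x = f (c j)
  · subst h2; simp [unit, hjj.1, Ne.symm hfij, Ne.symm hzf.2]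
  by_cases h3 : x = z
  · subst h3; simp [unit, h1, h2]
  have := hz0 x h3
  simp only [h1, h2, or_self, if_false] at this
  simp [unit, h1, h2, h3, (pow_eq_zero_iff two_ne_zero).1 this]

end CfsgLib.TISylowThree
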