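import Cfsg.Agent.TISylowThree.Model
import Cfsg.Agent.TISylowThree.Signed
import Cfsg.Agent.Characters.Generalized
import Cfsg.Agent.Characters.Linear
import Cfsg.Agent.Perm.PermChar
import Cfsg.Agent.ClassPairs.Basic
import Cfsg.Agent.Coprime.Generation
import Cfsg.Agent.Coherence.Virtual

/-!
# A group with a self-centralising T.I. Sylow `3`-normaliser of order `108`

If `H` is such a subgroup of `G`, the induced generalised characters and the number of pairs of
involutions with given product give two linear characters of `G`; Burnside's transfer theorem then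
yields `G = H`.
-/

set_option autoImplicit false
set_option linter.unusedSectionVars false
set_option linter.style.haveILetI false

namespace CfsgLib.TISylowThree

open CfsgLib.Characters
open scoped ComplexConjugate

universe u

/-- The hypotheses. -/
structure Setup (G : Type u) [Group G] where
  H : Subgroup G
  T : Subgroup G
  e : H ≃* M
  le : T ≤ H
  mem : ∀ h : H, (h : G) ∈ T ↔ e h ^ 3 = 1
  cent : ∀ t ∈ T, t ≠ 1 → Subgroup.centralizer ({t} : Set G) ≤ H
  norm : Subgroup.normalizer (T : Set G) = H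

/-- Build the set-up from a subgroup of order `27`. -/
theorem exists_setup {G : Type u} [Group G] {H T : Subgroup G} (e : H ≃* M) (hTH : T ≤ H)
    (hT : Nat.card T = 27) (hN : Subgroup.normalizer (T : Set G) = H)
    (hC : ∀ t ∈ T, t ≠ 1 → Subgroup.centralizer ({t} : Set G) ≤ H) :
    ∃ c : Setup G, c.H = H := by
  classical
  haveI : Finite H := Finite.of_equiv M e.symm.toEquiv
  haveI := Fintype.ofFinite H
  haveI : Finite T := Nat.finite_of_card_ne_zero (by rw [hT]; norm_num)
  haveI := Fintype.ofFinite T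
  have h1 : ∀ t : T, e ⟨t, hTH t.2⟩ ^ 3 = 1 := fun t => pow_27 _ (by
    rw [← map_pow, map_eq_one_iff e e.injective]
    refine Subtype.ext ?_
    have := pow_card_eq_one' (x := t)
    rw [hT] at this
    simpa using congrArg Subtype.val this)
  refine ⟨⟨H, T, e, hTH, fun h => ⟨fun hm => h1 ⟨h, hm⟩, fun hm => ?_⟩, hC, hN⟩, rfl⟩
  have hinj : Function.Injective (fun t : T => e ⟨(t : G), hTH t.2⟩) := fun a b hab =>
    Subtype.ext (congrArg (fun x : H => (x : G)) (e.injective hab))
  have heq : Finset.univ.image (fun t : T => e ⟨t, hTH t.2⟩) =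
      Finset.univ.filter fun m : M => m ^ 3 = 1 := by
    refine Finset.eq_of_subset_of_card_le (fun m hm => ?_) ?_
    · obtain ⟨t, -, rfl⟩ := Finset.mem_image.1 hm
      exact Finset.mem_filter.2 ⟨Finset.mem_univ _, h1 t⟩
    · rw [card_rot, Finset.card_image_of_injective _ hinj, Finset.card_univ,
        ← Nat.card_eq_fintype_card, hT]
  have hmem : e h ∈ Finset.univ.filter fun m : M => m ^ 3 = 1 :=
    Finset.mem_filter.2 ⟨Finset.mem_univ _, hm⟩
  rw [← heq] at hmem
  obtain ⟨t, -, ht⟩ := Finset.mem_image.1 hmem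
  rw [← e.injective ht]
  exact t.2

/-- The algebra of the structure constants. -/
theorem degree_eq (u : Fin 3 → ℤ) (p : Fin 3 → ℂ) (m k : ℂ) (hk : k ≠ 0)
    (hu : ∀ i, (u i : ℂ) ≠ 0) (hu1 : ∀ i, (1 : ℂ) - u i ≠ 0)
    (h12 : (u 0 : ℂ) + u 1 ≠ 0) (h13 : (u 0 : ℂ) + u 2 ≠ 0)
    (hY1 : (1 : ℂ) - (u 0 + u 1 + u 2) ≠ 0)
    (h : ∀ i, p i ^ 2 / u i + (m - p i) ^ 2 / (1 - u i) - m ^ 2 = k)
    (hA : p 0 ^ 2 / u 0 + p 1 ^ 2 / u 1 + (-(p 0 + p 1)) ^ 2 / (-((u 0 : ℂ) + u 1)) = 0)
    (hB : p 0 ^ 2 / u 0 + p 2 ^ 2 / u 2 + (-(p 0 + p 2)) ^ 2 / (-((u 0 : ℂ) + u 2)) = 0)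
    (hY : p 0 ^ 2 / u 0 + p 1 ^ 2 / u 1 + p 2 ^ 2 / u 2 +
      (m - (p 0 + p 1 + p 2)) ^ 2 / (1 - (u 0 + u 1 + u 2)) - m ^ 2 = 3 / 2 * k) :
    ∀ i, u i = -1 := by
  have prop : ∀ a b : Fin 3, (u a : ℂ) + u b ≠ 0 →
      p a ^ 2 / u a + p b ^ 2 / u b + (-(p a + p b)) ^ 2 / (-((u a : ℂ) + u b)) = 0 →
      p b = p a / u a * u b := by
    intro a b hab he
    have h0 := hu a
    have h1 := hu b
    have hsq : (p a * u b - p b * u a) ^ 2 = 0 := by
      have e : p a ^ 2 / u a + p b ^ 2 / u b + (-(p a + p b)) ^ 2 / (-((u a : ℂ) + u b)) =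
          (p a * u b - p b * u a) ^ 2 / (u a * u b * (u a + u b)) := by
        field_simp
        ring
      rw [e, div_eq_zero_iff] at he
      exact he.resolve_right (mul_ne_zero (mul_ne_zero h0 h1) hab)
    have := (pow_eq_zero_iff two_ne_zero).1 hsq
    rw [div_mul_eq_mul_div, eq_div_iff h0]
    linear_combination -this
  set r := p 0 / u 0
  have hp : ∀ i, p i = r * u i := by
    intro i
    fin_cases i
    · exact (div_mul_cancel₀ _ (hu 0)).symm
    · exact prop 0 1 h12 hA
    · exact prop 0 2 h13 hB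
  set c := (r - m) ^ 2
  have hc : ∀ i, c * u i = k * (1 - u i) := by
    intro i
    have h0 := hu i
    have h1 := hu1 i
    have e : (r * u i) ^ 2 / u i + (m - r * u i) ^ 2 / (1 - u i) - m ^ 2 = c * u i / (1 - u i) := by
      simp only [c]
      field_simp
      ring
    have := h i
    rw [hp i, e, div_eq_iff h1] at this
    exact this
  have hck : c + k ≠ 0 := fun e => hk (by linear_combination (u 0 : ℂ) * e - hc 0)
  have heq : ∀ i, (u i : ℂ) = u 0 := fun i => by
    refine mul_left_cancel₀ hck ?_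
    linear_combination hc i - hc 0
  rw [hp 0, hp 1, hp 2, heq 1, heq 2] at hY
  rw [heq 1, heq 2] at hY1
  have h3 : 2 * (u 0 : ℂ) * c = k * (1 - 3 * u 0) := by
    have h0 := hu 0
    have e : (r * u 0) ^ 2 / u 0 + (r * u 0) ^ 2 / u 0 + (r * u 0) ^ 2 / u 0 +
        (m - (r * u 0 + r * u 0 + r * u 0)) ^ 2 / (1 - (u 0 + u 0 + u 0)) - m ^ 2 =
          3 * c * u 0 / (1 - (u 0 + u 0 + u 0)) := by
      simp only [c]
      generalize hD : (1 : ℂ) - (u 0 + u 0 + u 0) = D at hY1 ⊢
      field_simp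
      subst hD
      ring
    rw [e, div_eq_iff hY1] at hY
    linear_combination (2 / 3 : ℂ) * hY
  have hfin : k * ((u 0 : ℂ) + 1) = 0 := by linear_combination h3 - 2 * hc 0
  intro i
  have : (u i : ℂ) = -1 := by
    rw [heq i]; linear_combination (mul_eq_zero.1 hfin).resolve_left hk
  exact_mod_cast this

variable {G : Type u} [Group G] [Fintype G] (c : Setup G)

noncomputable local instance : Fintype c.H := Fintype.ofFinite _

namespace Setup

theorem sq_mem (h : c.H) : (h : G) * h ∈ c.T := by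
  refine (c.mem (h * h)).2 ?_
  rw [map_mul, ← sq, ← pow_mul]
  exact pow_six _

theorem eq_one_of_sq {h : c.H} : (h : G) * h = 1 ↔ c.e h * c.e h = 1 := by
  rw [← map_mul, map_eq_one_iff c.e c.e.injective, Subtype.ext_iff]
  rfl

theorem card_T : Nat.card c.T = 27 := by
  classical
  rw [← card_rot, ← Fintype.card_subtype, ← Nat.card_eq_fintype_card]
  refine Nat.card_congr
    { toFun := fun t => ⟨c.e ⟨t, c.le t.2⟩, (c.mem _).1 t.2⟩
      invFun := fun m => ⟨(c.e.symm m.1 : c.H), (c.mem _).2 (by simpa using m.2)⟩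
      left_inv := fun t => by simp
      right_inv := fun m => by simp }

theorem eq_T {P : Subgroup G} (hP : P ≤ c.H) (hcard : Nat.card P = Nat.card c.T) :
    P = c.T := by
  refine Subgroup.eq_of_le_of_card_ge (fun x hx => (c.mem ⟨x, hP hx⟩).2 (pow_27 _ ?_)) hcard.ge
  rw [← map_pow, map_eq_one_iff c.e c.e.injective]
  refine Subtype.ext ?_
  have := pow_card_eq_one' (x := (⟨x, hx⟩ : P))
  rw [hcard, c.card_T] at this
  simpa using congrArg Subtype.val this

theorem comm_T {a b : G} (ha : a ∈ c.T) (hb : b ∈ c.T) : a * b = b * a := by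
  have := rot_mul _ ((c.mem ⟨a, c.le ha⟩).1 ha) _ ((c.mem ⟨b, c.le hb⟩).1 hb)
  rw [← map_mul, ← map_mul] at this
  exact congrArg Subtype.val (c.e.injective this)

/-- The elements of order `3` or `6` of `H` are controlled by `H`. -/
theorem mem_of_conj_mem {x : c.H} (hx : (x : G) * x ≠ 1) {g : G} (h : g * x * g⁻¹ ∈ c.H) :
    g ∈ c.H := by
  set t' := g * ((x : G) * x) * g⁻¹
  have ht' : t' ∈ c.T := by
    have := c.sq_mem ⟨_, h⟩
    simpa [t', mul_assoc] using this
  have hne : t' ≠ 1 := fun e => hx (by simpa [t'] using e)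
  have hle : c.T.map (MulAut.conj g).toMonoidHom ≤ c.H := by
    rintro _ ⟨s, hs, rfl⟩
    refine c.cent t' ht' hne (Subgroup.mem_centralizer_singleton_iff.2 ?_)
    simp only [MulEquiv.coe_toMonoidHom, MulAut.conj_apply, t']
    calc g * s * g⁻¹ * (g * ((x : G) * x) * g⁻¹) = g * (s * ((x : G) * x)) * g⁻¹ := by group
      _ = g * (((x : G) * x) * s) * g⁻¹ := by rw [c.comm_T hs (c.sq_mem x)]
      _ = g * ((x : G) * x) * g⁻¹ * (g * s * g⁻¹) := by group
  have := c.eq_T hle (Subgroup.card_map_of_injective (MulAut.conj g).injective)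
  exact c.norm.le (Subgroup.mem_normalizer_iff_map_conj_eq.2 this)

/-- The class functions on `H`. -/
noncomputable def W (i : Fin 7) (h : c.H) : ℂ := (V i (c.e h) : ℂ)

theorem isGen_S (k : Fin 3) :
    Cfsg.IsGeneralizedCharacter c.H fun h => (S k (c.e h) : ℂ) := by
  have := isGen_of_isIrr (isIrr_linChar ((Units.map (Int.castRingHom ℂ).toMonoidHom).comp
    (sgnHom.comp ((proj k).comp c.e.toMonoidHom))))
  simpa [S] using this

theorem isGen_X (k : Fin 3) :
    Cfsg.IsGeneralizedCharacter c.H fun h => (X k (c.e h) : ℂ) := by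
  classical
  letI : MulAction c.H (ZMod 3) := MulAction.compHom _ (act.comp ((proj k).comp c.e.toMonoidHom))
  have := Characters.isGen_sub (Characters.isGen_of_isCharacter
    (Perm.PermChar.isCharacter_perm (G := c.H) (Ω := ZMod 3))) Characters.isGen_one
  convert this using 1
  funext h
  have h1 := chiTwo_eq (proj k (c.e h))
  have h2 : Nat.card (MulAction.fixedBy (ZMod 3) h) =
      (Finset.univ.filter fun x => act (proj k (c.e h)) x = x).card := by
    rw [Nat.card_eq_fintype_card, ← Fintype.card_subtype]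
    exact Fintype.card_congr (Equiv.subtypeEquivRight fun x => Iff.rfl)
  simp only [Pi.sub_apply, Perm.PermChar.perm, X]
  rw [h2, ← Int.cast_natCast, ← h1]
  push_cast
  ring

theorem isGen_W (i : Fin 7) : Cfsg.IsGeneralizedCharacter c.H (c.W i) := by
  have h1 := Characters.isGen_one (G := c.H)
  have hS := c.isGen_S
  have hX := c.isGen_X
  fin_cases i <;> unfold W <;> simp only [V] <;> push_cast
  · exact isGen_sub (isGen_sub (hX 0) h1) (hS 0)
  · exact isGen_sub (isGen_sub (hX 1) h1) (hS 1)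
  · exact isGen_sub (isGen_sub (hX 2) h1) (hS 2)
  · exact isGen_sub (isGen_sub (isGen_mul (hX 2) (hS 0)) (hS 0)) (hS 1)
  · exact isGen_sub (isGen_sub (isGen_mul (hX 1) (hS 0)) (hS 0)) (hS 2)
  · exact isGen_sub (isGen_sub (isGen_sub (isGen_sub (isGen_mul (hX 0) (hX 1)) h1) (hS 0)) (hS 1))
      (hS 2)
  · exact isGen_sub (isGen_sub (isGen_sub (isGen_sub (isGen_mul (hX 0) (hX 2)) h1) (hS 0)) (hS 1))
      (hS 2)

/-- The induced functions. -/
noncomputable def alpha (i : Fin 7) : G → ℂ := Cfsg.indFun c.H (c.W i)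

theorem W_eq_zero (i : Fin 7) {h : c.H} (hh : (h : G) * h = 1) : c.W i h = 0 := by
  rw [W, V_supp i _ (c.eq_one_of_sq.1 hh), Int.cast_zero]

theorem alpha_eq_zero (i : Fin 7) {g : G} (hg : g * g = 1) : c.alpha i g = 0 := by
  have : ∀ x : G, Cfsg.extendByZero c.H (c.W i) (x⁻¹ * g * x) = 0 := fun x => by
    by_cases hm : x⁻¹ * g * x ∈ c.H
    · rw [extendByZero_of_mem c.H _ hm]
      refine c.W_eq_zero i ?_
      show x⁻¹ * g * x * (x⁻¹ * g * x) = 1
      calc x⁻¹ * g * x * (x⁻¹ * g * x) = x⁻¹ * (g * g) * x := by group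
        _ = 1 := by rw [hg]; group
    · exact extendByZero_of_not_mem c.H _ hm
  simp [alpha, Cfsg.indFun, this]

theorem alpha_apply (i : Fin 7) {x : c.H} (hx : (x : G) * x ≠ 1) :
    c.alpha i x = c.W i x := by
  classical
  have hterm : ∀ g : G, Cfsg.extendByZero c.H (c.W i) (g⁻¹ * x * g) =
      if g ∈ c.H then c.W i x else 0 := by
    intro g
    split_ifs with hg
    · have hm : g⁻¹ * x * g ∈ c.H := mul_mem (mul_mem (inv_mem hg) x.2) hg
      rw [extendByZero_of_mem c.H _ hm]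
      rw [show (⟨g⁻¹ * x * g, hm⟩ : c.H) = (⟨g, hg⟩ : c.H)⁻¹ * x * ((⟨g, hg⟩ : c.H)⁻¹)⁻¹ from
          Subtype.ext (by simp)]
      exact isClassFunction_of_isGen (c.isGen_W i) x _
    · refine extendByZero_of_not_mem c.H _ fun hm => hg ?_
      have := c.mem_of_conj_mem hx (g := g⁻¹) (by simpa using hm)
      simpa using inv_mem this
  unfold alpha Cfsg.indFun
  rw [Finset.sum_congr rfl fun g _ => hterm g, ← Finset.sum_filter, Finset.sum_const,
    nsmul_eq_mul, ← Fintype.card_subtype, ← Nat.card_eq_fintype_card, ← mul_assoc]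
  exact (congrArg (· * c.W i x) (inv_mul_cancel₀ (subgroup_card_ne_zero c.H))).trans (one_mul _)

theorem sum_H (f : M → ℂ) : ∑ h : c.H, f (c.e h) = ∑ m : M, f m :=
  Fintype.sum_equiv c.e.toEquiv _ _ fun _ => rfl

theorem card_H : (Nat.card c.H : ℂ) = 108 := by
  rw [Nat.card_congr c.e.toEquiv, Nat.card_eq_fintype_card, card_M]
  norm_num

/-- Inner products with an induced function, computed in `M`. -/
theorem classInner_alpha (i : Fin 7) {θ : G → ℂ} (hθ : Cfsg.IsClassFunction G θ) (f : M → ℂ)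
    (hf : ∀ h : c.H, (h : G) * h ≠ 1 → θ h = f (c.e h)) :
    Cfsg.classInner (c.alpha i) θ = (108 : ℂ)⁻¹ * ∑ m : M, (V i m : ℂ) * conj (f m) := by
  rw [alpha, classInner_indFun c.H _ hθ, Cfsg.classInner, c.card_H, ← c.sum_H]
  congr 1
  refine Finset.sum_congr rfl fun h _ => ?_
  by_cases hh : (h : G) * h = 1
  · rw [c.W_eq_zero i hh, V_supp i _ (c.eq_one_of_sq.1 hh), Int.cast_zero, zero_mul, zero_mul]
  · rw [hf h hh, W]

theorem gram_alpha (i j : Fin 7) : Cfsg.classInner (c.alpha i) (c.alpha j) = gram i j := by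
  rw [c.classInner_alpha i (θ := c.alpha j) (isClassFunction_indFun _ _) (fun m => (V j m : ℂ))
    fun h hh => by rw [c.alpha_apply j hh, W]]
  simp only [map_intCast]
  have := congrArg (Int.cast : ℤ → ℂ) (V_gram i j)
  push_cast at this
  rw [this]
  field_simp

/-- The involutions. -/
noncomputable def invSet : Finset G :=
  haveI := Classical.decEq G
  Finset.univ.filter fun u => u * u = 1 ∧ u ≠ 1

open Classical in
/-- Pairs of involutions with product `g`. -/
noncomputable def pairs (g : G) : ℕ :=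
  ((invSet (G := G)).filter fun u => u * g * (u * g) = 1 ∧ u * g ≠ 1).card

end Setup

theorem mem_invSet {u : G} : u ∈ Setup.invSet ↔ u * u = 1 ∧ u ≠ 1 := by
  classical
  simp [Setup.invSet]

theorem invSet_conj (g : G) {u : G} (hu : u ∈ Setup.invSet) : g * u * g⁻¹ ∈ Setup.invSet := by
  rw [mem_invSet] at hu ⊢
  refine ⟨?_, fun e => hu.2 (by simpa using e)⟩
  calc g * u * g⁻¹ * (g * u * g⁻¹) = g * (u * u) * g⁻¹ := by group
    _ = 1 := by rw [hu.1]; group

theorem pairs_isClassFunction : Cfsg.IsClassFunction G fun g => (Setup.pairs g : ℂ) := by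
  classical
  intro g h
  simp only [Nat.cast_inj]
  have hiff : ∀ u, (u * (h * g * h⁻¹) * (u * (h * g * h⁻¹)) = 1 ∧ u * (h * g * h⁻¹) ≠ 1) ↔
      (h⁻¹ * u * h * g * (h⁻¹ * u * h * g) = 1 ∧ h⁻¹ * u * h * g ≠ 1) := fun u => by
    have e1 : u * (h * g * h⁻¹) = h * (h⁻¹ * u * h * g) * h⁻¹ := by group
    rw [e1]
    constructor
    · rintro ⟨h1, h2⟩
      refine ⟨?_, fun e => h2 (by rw [e]; group)⟩
      have h3 : h * ((h⁻¹ * u * h * g) * (h⁻¹ * u * h * g)) * h⁻¹ = 1 := by
        rw [← h1]; group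
      simpa using h3
    · rintro ⟨h1, h2⟩
      refine ⟨?_, fun e => h2 (by simpa using e)⟩
      rw [show h * (h⁻¹ * u * h * g) * h⁻¹ * (h * (h⁻¹ * u * h * g) * h⁻¹) =
        h * ((h⁻¹ * u * h * g) * (h⁻¹ * u * h * g)) * h⁻¹ by group, h1]
      group
  refine Finset.card_bij (fun u _ => h⁻¹ * u * h) (fun u hu => ?_) (fun a _ b _ e => by simpa using e)
    fun v hv => ⟨h * v * h⁻¹, ?_, by group⟩
  · rw [Finset.mem_filter] at hu ⊢
    exact ⟨by simpa using invSet_conj h⁻¹ hu.1, (hiff u).1 hu.2⟩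
  · rw [Finset.mem_filter] at hv ⊢
    refine ⟨invSet_conj h hv.1, (hiff _).2 ?_⟩
    rw [show h⁻¹ * (h * v * h⁻¹) * h = v by group]
    exact hv.2

/-- The sum over the involutions. -/
noncomputable def invSum (χ : Cfsg.IrrCharacter G) : ℂ := ∑ u ∈ Setup.invSet, (χ : G → ℂ) u

theorem classInner_pairs (χ : Cfsg.IrrCharacter G) :
    Cfsg.classInner (χ : G → ℂ) (fun g => (Setup.pairs g : ℂ)) =
      (Nat.card G : ℂ)⁻¹ * (invSum χ ^ 2 / (χ : G → ℂ) 1) := by
  classical
  have hcf := Characters.isClassFunction_of_isIrr χ.2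
  have hG : (Nat.card G : ℂ) ≠ 0 := natCard_ne_zero
  -- the class sum is central
  have hv : ∀ z : G, ∑ v ∈ Setup.invSet, (χ : G → ℂ) (v * z) =
      invSum χ * (χ : G → ℂ) z / (χ : G → ℂ) 1 := by
    intro z
    refine mul_left_cancel₀ hG ?_
    calc (Nat.card G : ℂ) * ∑ v ∈ Setup.invSet, (χ : G → ℂ) (v * z)
        = ∑ a : G, ∑ v ∈ Setup.invSet, (χ : G → ℂ) (a * v * a⁻¹ * z) := by
          rw [Nat.card_eq_fintype_card, ← nsmul_eq_mul, ← Finset.card_univ, ← Finset.sum_const]
          refine Finset.sum_congr rfl fun a _ => ?_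
          refine Finset.sum_bij' (fun v _ => a⁻¹ * v * a) (fun v _ => a * v * a⁻¹)
            (fun v hv => by simpa using invSet_conj a⁻¹ hv) (fun v hv => invSet_conj a hv)
            (fun v _ => by group) (fun v _ => by group) fun v _ => by
              rw [show a * (a⁻¹ * v * a) * a⁻¹ * z = v * z by group]
      _ = (Nat.card G : ℂ) * (invSum χ * (χ : G → ℂ) z / (χ : G → ℂ) 1) := by
          rw [Finset.sum_comm]
          simp only [ClassPairs.sum_conj_mul, invSum, Finset.sum_mul, Finset.sum_div,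
            Finset.mul_sum]
          exact Finset.sum_congr rfl fun v _ => by ring
  have hval : ∑ g : G, (χ : G → ℂ) g * (Setup.pairs g : ℂ) =
      ∑ u ∈ Setup.invSet, ∑ v ∈ Setup.invSet, (χ : G → ℂ) (u * v) := by
    simp only [Setup.pairs, Finset.card_filter, Nat.cast_sum, Finset.mul_sum]
    rw [Finset.sum_comm]
    refine Finset.sum_congr rfl fun u hu => ?_
    have hu2 := (mem_invSet.1 hu).1
    rw [Finset.sum_congr rfl fun g _ => show (χ : G → ℂ) g *
      ((if u * g * (u * g) = 1 ∧ u * g ≠ 1 then 1 else 0 : ℕ) : ℂ) =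
        if u * g ∈ Setup.invSet then (χ : G → ℂ) g else 0 by
          simp only [mem_invSet]; split_ifs <;> simp_all, ← Finset.sum_filter]
    refine Finset.sum_bij' (fun g _ => u * g) (fun v _ => u * v)
      (fun g hg => (Finset.mem_filter.1 hg).2) (fun v hv => Finset.mem_filter.2
        ⟨Finset.mem_univ _, by rw [← mul_assoc, hu2, one_mul]; exact hv⟩)
      (fun g _ => by rw [← mul_assoc, hu2, one_mul]) (fun v _ => by rw [← mul_assoc, hu2, one_mul])
      fun g _ => by rw [← mul_assoc, hu2, one_mul]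
  rw [Cfsg.classInner]
  congr 1
  simp only [map_natCast]
  rw [hval]
  have hflip : ∀ u v : G, (χ : G → ℂ) (u * v) = (χ : G → ℂ) (v * u) := fun u v => by
    rw [← hcf (v * u) u]
    congr 1
    group
  rw [Finset.sum_congr rfl fun u _ => (Finset.sum_congr rfl fun v _ => hflip u v).trans (hv u),
    sq, invSum, ← Finset.sum_div, ← Finset.mul_sum]

namespace Setup

/-- In `H` the pair count is that of `M`. -/
theorem pairs_of_mem {x : c.H} (hx : (x : G) * x ≠ 1) : pairs (x : G) = theta (c.e x) := by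
  classical
  have hkey : ∀ u : G, u * u = 1 → u * x * (u * x) = 1 → u ∈ c.H := fun u hu h => by
    refine c.mem_of_conj_mem hx ?_
    have e1 : u * x * u⁻¹ = (x : G)⁻¹ := by
      rw [inv_eq_of_mul_eq_one_right hu]
      exact (inv_eq_of_mul_eq_one_left (by simpa [mul_assoc] using h)).symm
    rw [e1]
    exact inv_mem x.2
  rw [pairs, theta]
  refine Finset.card_bij (fun u hu => c.e ⟨u, hkey u (mem_invSet.1 (Finset.mem_filter.1 hu).1).1
    (Finset.mem_filter.1 hu).2.1⟩) (fun u hu => ?_) (fun a _ b _ e => ?_) fun m hm => ?_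
  · obtain ⟨h1, h2, h3⟩ := Finset.mem_filter.1 hu
    obtain ⟨h4, h5⟩ := mem_invSet.1 h1
    refine Finset.mem_filter.2 ⟨Finset.mem_univ _, ⟨?_, ?_⟩, ?_, ?_⟩ <;>
      simp only [← map_mul, ne_eq, map_eq_one_iff c.e c.e.injective, Subtype.ext_iff] <;>
      first | exact h4 | exact h5 | exact h2 | exact h3
  · exact congrArg Subtype.val (c.e.injective e)
  · obtain ⟨-, ⟨h1, h2⟩, h3, h4⟩ := Finset.mem_filter.1 hm
    obtain ⟨u, rfl⟩ := c.e.surjective m
    simp only [← map_mul, ne_eq, map_eq_one_iff c.e c.e.injective, Subtype.ext_iff] at h1 h2 h3 h4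
    exact ⟨u, Finset.mem_filter.2 ⟨mem_invSet.2 ⟨h1, h2⟩, h3, h4⟩, by simp⟩

/-- There are two linear characters of `G` which are non-trivial on `H`, and differ on it. -/
theorem exists_homs : ∃ l : Fin 3 → (G →* ℂˣ),
    ∀ (i : Fin 3) (h : c.H), ((l i h : ℂˣ) : ℂ) = (S i (c.e h) : ℂ) := by
  classical
  set one : Cfsg.IrrCharacter G := ⟨fun _ => 1, isPrincipal⟩ with hone
  -- coefficients
  choose a ha hac using fun i =>
    exists_int_coeff (Characters.isGen_indFun c.H (c.isGen_W i))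
  choose n hn hn1 using fun χ : Cfsg.IrrCharacter G =>
    (show ∃ k : ℕ, 0 < k ∧ (χ : G → ℂ) 1 = (k : ℂ) from
      let ⟨k, h1, h2, _⟩ := ClassPairs.exists_irr_degree χ
      ⟨k, h1, h2⟩)
  set N : Cfsg.IrrCharacter G → ℤ := fun χ => (n χ : ℤ)
  have hN : ∀ χ, N χ ≠ 0 := fun χ => by simp [N, (hn χ).ne']
  have hNC : ∀ χ, (N χ : ℂ) = (χ : G → ℂ) 1 := fun χ => by rw [hn1]; simp [N]
  have hone1 : N one = 1 := by
    have : (N one : ℂ) = 1 := by rw [hNC]
    exact_mod_cast this
  have hexp : ∀ (i : Fin 7) (g : G), c.alpha i g = ∑ χ, (a i χ : ℂ) * (χ : G → ℂ) g := by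
    intro i g
    rw [alpha, ha i]
    simp
  have hdeg : ∀ i, ∑ χ, N χ * a i χ = 0 := fun i => by
    have h := hexp i 1
    rw [c.alpha_eq_zero i (one_mul 1)] at h
    have : ((∑ χ, N χ * a i χ : ℤ) : ℂ) = 0 := by
      push_cast
      rw [h]
      exact Finset.sum_congr rfl fun χ _ => by rw [hNC]; ring
    exact_mod_cast this
  have hinv : ∀ i, ∑ χ, (a i χ : ℂ) * invSum χ = 0 := fun i => by
    simp only [invSum, Finset.mul_sum]
    rw [Finset.sum_comm]
    refine Finset.sum_eq_zero fun u hu => ?_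
    rw [← hexp, c.alpha_eq_zero i (mem_invSet.1 hu).1]
  have hgram : ∀ i j, ∑ χ, a i χ * a j χ = gram i j := fun i j => by
    have h := c.gram_alpha i j
    rw [alpha, classInner_eq_sum (isClassFunction_indFun _ _)] at h
    have h' : ((∑ χ, a i χ * a j χ : ℤ) : ℂ) = gram i j := by
      rw [← h]
      push_cast
      exact Finset.sum_congr rfl fun χ _ => by
        rw [hac, show Cfsg.classInner (c.alpha j) (χ : G → ℂ) = _ from hac j χ, map_intCast]
    exact_mod_cast h'
  have hlin : ∀ (i : Fin 7) (χ : Cfsg.IrrCharacter G) (f : M → ℤ),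
      (∀ h : c.H, (χ : G → ℂ) h = f (c.e h)) → (a i χ * 108 : ℤ) = ∑ m : M, V i m * f m := by
    intro i χ f hf
    have h := c.classInner_alpha i (Characters.isClassFunction_of_isIrr χ.2) (fun m => (f m : ℂ))
      fun h _ => hf h
    rw [show Cfsg.classInner (c.alpha i) (χ : G → ℂ) = _ from hac i χ] at h
    simp only [map_intCast] at h
    have : ((a i χ * 108 : ℤ) : ℂ) = ((∑ m : M, V i m * f m : ℤ) : ℂ) := by
      push_cast
      rw [h]
      field_simp
    exact_mod_cast this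
  have htriv : ∀ i, a i one = trivCoef i := fun i => by
    have := hlin i one (fun _ => 1) fun _ => by simp [hone]
    simp only [mul_one] at this
    rw [V_triv] at this
    linarith
  have htheta : ∀ i, ∑ χ, (a i χ : ℂ) * (invSum χ ^ 2 / (χ : G → ℂ) 1) =
      (Nat.card G : ℂ) * thetaCoef i := fun i => by
    have h := c.classInner_alpha i (pairs_isClassFunction (G := G)) (fun m => (theta m : ℂ))
      fun h hh => by simp [c.pairs_of_mem hh]
    rw [alpha, ha i, classInner_sum_left] at h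
    simp only [classInner_smul_left, classInner_pairs, map_natCast] at h
    have h2 : (∑ m : M, (V i m : ℂ) * (theta m : ℂ)) = 108 * (thetaCoef i : ℂ) := by
      exact_mod_cast congrArg (Int.cast : ℤ → ℂ) (V_theta i)
    rw [h2, ← mul_assoc, inv_mul_cancel₀ (by norm_num : (108 : ℂ) ≠ 0), one_mul] at h
    have hG : (Nat.card G : ℂ) ≠ 0 := natCard_ne_zero
    rw [← h, Finset.mul_sum]
    exact Finset.sum_congr rfl fun χ _ => by field_simp
  -- the shape
  set δ : Cfsg.IrrCharacter G → ℤ := fun χ => if χ = one then 1 else 0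
  have hδ : ∀ v : Cfsg.IrrCharacter G → ℤ, ∑ χ, v χ * δ χ = v one := fun v => by simp [δ]
  set b : Fin 3 → Cfsg.IrrCharacter G → ℤ := fun i χ => a (i.castLE (by norm_num)) χ + δ χ
  have hmk : ∀ (i j : Fin 7), ∑ χ, (a i χ + δ χ) * (a j χ + δ χ) =
      gram i j + trivCoef i + trivCoef j + 1 := fun i j => by
    simp only [add_mul, mul_add, Finset.sum_add_distrib, hgram, hδ, htriv,
      Finset.sum_congr rfl fun χ _ => mul_comm (δ χ) (a j χ)]
    simp [δ]
    ring
  have hnδ : ∀ i, ∑ χ, N χ * (a i χ + δ χ) = 1 := fun i => by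
    simp only [mul_add, Finset.sum_add_distrib, hdeg, hδ, hone1]
    norm_num
  obtain ⟨f, e, s, t, p, w, hs, ht, hw, hb, hy, hbf, hbff, hyf, hA⟩ :=
    exists_shape N hN b
      (fun i => by
        simp only [b, sq, hmk]
        fin_cases i <;> rfl)
      (fun i j hij => by
        simp only [b, hmk]
        fin_cases i <;> fin_cases j <;> first | exact absurd rfl hij | rfl)
      (fun i => hnδ _) (fun χ => a 5 χ + δ χ) (fun χ => a 6 χ + δ χ)
      (by simp only [sq, hmk]; rfl) (by simp only [sq, hmk]; rfl) (by rw [hmk]; rfl)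
      (hnδ 5) (hnδ 6)
      (fun i => by simp only [b, hmk]; fin_cases i <;> rfl)
      (fun i => by simp only [b, hmk]; fin_cases i <;> rfl)
  -- linear functionals
  have hval : ∀ (L : Cfsg.IrrCharacter G → ℂ) (i : Fin 3),
      ∑ χ, (a (i.castLE (by norm_num)) χ : ℂ) * L χ = s i * L (f i) + t i * L (e i) - L one := by
    intro L i
    have : ∀ χ, (a (i.castLE (by norm_num)) χ : ℂ) =
        (unit (f i) (s i) χ : ℂ) + (unit (e i) (t i) χ : ℂ) - (δ χ : ℂ) := fun χ => by
      have := congrFun (hb i) χ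
      simp only [b, Pi.add_apply] at this
      rw [eq_sub_iff_add_eq]
      exact_mod_cast this
    simp only [this, sub_mul, add_mul, Finset.sum_sub_distrib, Finset.sum_add_distrib, sum_unit]
    simp [δ]
  have hvalY : ∀ L : Cfsg.IrrCharacter G → ℂ, ∑ χ, (a 5 χ : ℂ) * L χ =
      s 0 * L (f 0) + s 1 * L (f 1) + s 2 * L (f 2) + w * L p - L one := by
    intro L
    have : ∀ χ, (a 5 χ : ℂ) = (unit (f 0) (s 0) χ : ℂ) + (unit (f 1) (s 1) χ : ℂ) +
        (unit (f 2) (s 2) χ : ℂ) + (unit p w χ : ℂ) - (δ χ : ℂ) := fun χ => by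
      have := congrFun hy χ
      simp only [Pi.add_apply] at this
      rw [eq_sub_iff_add_eq]
      exact_mod_cast this
    simp only [this, sub_mul, add_mul, Finset.sum_sub_distrib, Finset.sum_add_distrib, sum_unit]
    simp [δ]
  have hyd : ∀ i : Fin 7, ∀ j : Fin 7, trivCoef i = 0 →
      ∑ χ, a i χ * (a j χ + δ χ) = gram i j := fun i j h => by
    simp only [mul_add, Finset.sum_add_distrib, hgram, hδ, htriv, h, add_zero]
  obtain ⟨z, o, ho, hzo⟩ := hA (a 3) 0 1 2 (by decide) (by decide) (by decide)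
    (by simp only [sq, hgram]; rfl) ((hyd 3 0 rfl).trans rfl) ((hyd 3 1 rfl).trans rfl)
    ((hyd 3 2 rfl).trans rfl) ((hyd 3 5 rfl).trans rfl) ((hyd 3 6 rfl).trans rfl)
  obtain ⟨z', o', ho', hzo'⟩ := hA (a 4) 0 2 1 (by decide) (by decide) (by decide)
    (by simp only [sq, hgram]; rfl) ((hyd 4 0 rfl).trans rfl) ((hyd 4 2 rfl).trans rfl)
    ((hyd 4 1 rfl).trans rfl) ((hyd 4 5 rfl).trans rfl) ((hyd 4 6 rfl).trans rfl)
  have hval3 : ∀ L : Cfsg.IrrCharacter G → ℂ, ∑ χ, (a 3 χ : ℂ) * L χ =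
      s 0 * L (f 0) + s 1 * L (f 1) + o * L z := fun L => by
    simp only [hzo, Pi.add_apply, Int.cast_add, add_mul, Finset.sum_add_distrib, sum_unit]
  have hval4 : ∀ L : Cfsg.IrrCharacter G → ℂ, ∑ χ, (a 4 χ : ℂ) * L χ =
      s 0 * L (f 0) + s 2 * L (f 2) + o' * L z' := fun L => by
    simp only [hzo', Pi.add_apply, Int.cast_add, add_mul, Finset.sum_add_distrib, sum_unit]
  -- degrees and sums over the involutions
  set u : Fin 3 → ℤ := fun i => s i * N (f i)
  set q : Fin 3 → ℂ := fun i => s i * invSum (f i)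
  set m := invSum one
  have hdegC : ∀ i, ∑ χ, (a i χ : ℂ) * (N χ : ℂ) = 0 := fun i => by
    have := congrArg (Int.cast : ℤ → ℂ) (hdeg i)
    push_cast at this
    rw [← this]
    exact Finset.sum_congr rfl fun χ _ => mul_comm _ _
  have hsq : ∀ {s : ℤ}, s = 1 ∨ s = -1 → ∀ χ : Cfsg.IrrCharacter G,
      (s : ℂ) * (invSum χ ^ 2 / (χ : G → ℂ) 1) = ((s : ℂ) * invSum χ) ^ 2 / ((s : ℂ) * N χ) := by
    intro s hs χ
    rw [← hNC]
    have := hN χ
    rcases hs with rfl | rfl <;> push_cast <;> field_simp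
  have hNone : (one : G → ℂ) 1 = 1 := rfl
  have e1 : ∀ i, (t i : ℂ) * N (e i) = 1 - u i ∧ (t i : ℂ) * invSum (e i) = m - q i := fun i => by
    have h1 := hdegC (i.castLE (by norm_num))
    have h2 := hinv (i.castLE (by norm_num))
    rw [hval (fun χ => (N χ : ℂ))] at h1
    rw [hval invSum] at h2
    simp only [hone1, Int.cast_one] at h1
    refine ⟨?_, ?_⟩
    · simp only [u, Int.cast_mul]; linear_combination h1
    · simp only [q, m]; linear_combination h2
  have e3 : (o : ℂ) * N z = -((u 0 : ℂ) + u 1) ∧ (o : ℂ) * invSum z = -(q 0 + q 1) := by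
    have h1 := hdegC 3
    have h2 := hinv 3
    rw [hval3 (fun χ => (N χ : ℂ))] at h1
    rw [hval3 invSum] at h2
    refine ⟨?_, ?_⟩
    · simp only [u, Int.cast_mul]; linear_combination h1
    · simp only [q]; linear_combination h2
  have e4 : (o' : ℂ) * N z' = -((u 0 : ℂ) + u 2) ∧ (o' : ℂ) * invSum z' = -(q 0 + q 2) := by
    have h1 := hdegC 4
    have h2 := hinv 4
    rw [hval4 (fun χ => (N χ : ℂ))] at h1
    rw [hval4 invSum] at h2
    refine ⟨?_, ?_⟩
    · simp only [u, Int.cast_mul]; linear_combination h1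
    · simp only [q]; linear_combination h2
  have e5 : (w : ℂ) * N p = 1 - ((u 0 : ℂ) + u 1 + u 2) ∧
      (w : ℂ) * invSum p = m - (q 0 + q 1 + q 2) := by
    have h1 := hdegC 5
    have h2 := hinv 5
    rw [hvalY (fun χ => (N χ : ℂ))] at h1
    rw [hvalY invSum] at h2
    simp only [hone1, Int.cast_one] at h1
    refine ⟨?_, ?_⟩
    · simp only [u, Int.cast_mul]; linear_combination h1
    · simp only [q, m]; linear_combination h2
  have hne : ∀ {s : ℤ}, s = 1 ∨ s = -1 → ∀ χ, (s : ℂ) * (N χ : ℂ) ≠ 0 := fun hs χ => by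
    refine mul_ne_zero ?_ (Int.cast_ne_zero.2 (hN χ))
    rcases hs with rfl | rfl <;> norm_num
  have hu : ∀ i, u i = -1 := by
    refine degree_eq u q m ((Nat.card G : ℂ) * (-6)) (mul_ne_zero natCard_ne_zero (by norm_num))
      (fun i => by simpa [u] using hne (hs i) (f i))
      (fun i => (e1 i).1 ▸ hne (ht i) (e i)) (fun h => hne ho z (by rw [e3.1, h, neg_zero]))
      (fun h => hne ho' z' (by rw [e4.1, h, neg_zero])) (e5.1 ▸ hne hw p) (fun i => ?_) ?_ ?_ ?_
    · have h := htheta (i.castLE (by norm_num))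
      rw [hval, hsq (hs i), hsq (ht i), hNone, div_one, (e1 i).1, (e1 i).2] at h
      simp only [u, q, Int.cast_mul] at h ⊢
      refine h.trans ?_
      rw [show thetaCoef (i.castLE (by norm_num)) = -6 by fin_cases i <;> rfl]
      push_cast
      rfl
    · have h := htheta 3
      rw [hval3, hsq (hs 0), hsq (hs 1), hsq ho, e3.1, e3.2,
        show thetaCoef 3 = 0 from rfl] at h
      simp only [u, q, Int.cast_mul] at h ⊢
      simpa using h
    · have h := htheta 4
      rw [hval4, hsq (hs 0), hsq (hs 2), hsq ho', e4.1, e4.2,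
        show thetaCoef 4 = 0 from rfl] at h
      simp only [u, q, Int.cast_mul] at h ⊢
      simpa using h
    · have h := htheta 5
      rw [hvalY, hsq (hs 0), hsq (hs 1), hsq (hs 2), hsq hw, e5.1, e5.2, hNone, div_one] at h
      simp only [u, q, Int.cast_mul] at h ⊢
      refine h.trans ?_
      rw [show thetaCoef 5 = -9 from rfl]
      push_cast
      ring
  -- the linear characters
  have hdeg1 : ∀ i, (f i : G → ℂ) 1 = 1 := fun i => by
    rw [← hNC]
    have h1 := hu i
    simp only [u] at h1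
    have h2 : 0 < N (f i) := by simp [N, hn]
    have : N (f i) = 1 := by rcases hs i with h | h <;> rw [h] at h1 <;> omega
    simp [this]
  choose l hl using fun i => exists_hom_of_degree_one (Characters.isCharacter_of_isIrr (f i).2) (hdeg1 i)
  refine ⟨l, fun i h => ?_⟩
  set φ : M →* ℂˣ := (l i).comp (c.H.subtype.comp c.e.symm.toMonoidHom)
  suffices hφ : ∀ m, ((φ m : ℂˣ) : ℂ) = S i m by
    have := hφ (c.e h)
    simpa [φ] using this
  have htau : ∀ k, φ (tau k) = 1 := fun k => by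
    obtain ⟨x, hx⟩ := tau_comm k
    rw [← hx, map_mul, map_mul, map_mul, map_inv, map_inv, mul_comm (φ x), mul_inv_cancel_right,
      mul_inv_cancel]
  have hflip : ∀ x : M, x * x = 1 → ((φ x : ℂˣ) : ℂ) = 1 ∨ ((φ x : ℂˣ) : ℂ) = -1 := fun x hx => by
    refine mul_self_eq_one_iff.1 ?_
    rw [← Units.val_mul, ← map_mul, hx, map_one, Units.val_one]
  have hgen : ∀ g : M → ℤ, (∀ x y, g (x * y) = g x * g y) → (∀ k, g (tau k) = 1) → g 1 = 1 →
      ((φ flipA : ℂˣ) : ℂ) = g flipA → ((φ flipB : ℂˣ) : ℂ) = g flipB →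
      ∀ m, ((φ m : ℂˣ) : ℂ) = g m := by
    intro g hg hgt hg1 hA hB m
    let g' : M →* ℤ := { toFun := g, map_one' := hg1, map_mul' := hg }
    obtain ⟨x, y, z, d, e, rfl⟩ := word m
    change _ = ((g' _ : ℤ) : ℂ)
    have hgt' : ∀ k, g' (tau k) = 1 := hgt
    simp only [map_mul, map_pow, htau, hgt', one_pow, one_mul, Units.val_mul, Units.val_pow_eq_pow_val,
      hA, hB, Int.cast_mul, Int.cast_pow]
    rfl
  have hSmul : ∀ k x y, S k (x * y) = S k x * S k y := fun k x y => by simp [S]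
  have hS1 : ∀ k, S k 1 = 1 := fun k => by simp [S]
  have hcase : (∀ m, ((φ m : ℂˣ) : ℂ) = ((1 : ℤ) : ℂ)) ∨
      ∃ k, ∀ m, ((φ m : ℂˣ) : ℂ) = S k m := by
    obtain ⟨-, -, -, hA0, hB0⟩ := S_gen 0
    obtain ⟨-, -, -, hA1, hB1⟩ := S_gen 1
    obtain ⟨-, hfa, hfb, hA2, hB2⟩ := S_gen 2
    rcases hflip _ hfa with hA | hA <;> rcases hflip _ hfb with hB | hB
    · exact Or.inl (hgen (fun _ => 1) (fun _ _ => rfl) (fun _ => rfl) rfl (by simp [hA]) (by simp [hB]))
    · exact Or.inr ⟨2, hgen _ (hSmul 2) (S_gen 2).1 (hS1 2) (by simp [hA, hA2]) (by simp [hB, hB2])⟩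
    · exact Or.inr ⟨1, hgen _ (hSmul 1) (S_gen 1).1 (hS1 1) (by simp [hA, hA1]) (by simp [hB, hB1])⟩
    · exact Or.inr ⟨0, hgen _ (hSmul 0) (S_gen 0).1 (hS1 0) (by simp [hA, hA0]) (by simp [hB, hB0])⟩
  have hfone : ∀ i, f i ≠ one := fun i he => by
    have : b i one = s i := he ▸ hbff i
    simp only [b, δ, if_true, htriv] at this
    rcases hs i with h | h <;> rw [h] at this <;> fin_cases i <;> simp [trivCoef] at this
  have hzero : ∀ k, k ≠ i → a (k.castLE (by norm_num)) (f i) = 0 := fun k hk => by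
    have := hbf k i hk
    simpa [b, δ, hfone i] using this
  have hrel : ∀ h : c.H, (f i : G → ℂ) h = ((φ (c.e h) : ℂˣ) : ℂ) := fun h => by
    simp [φ, hl]
  rcases hcase with hφ | ⟨k, hφ⟩
  · exfalso
    obtain ⟨k, hk⟩ : ∃ k : Fin 3, k ≠ i := exists_ne i
    have := hlin (k.castLE (by norm_num)) (f i) (fun _ => 1) fun h => (hrel h).trans (hφ _)
    simp only [mul_one] at this
    rw [hzero k hk, V_triv] at this
    fin_cases k <;> simp [trivCoef] at this
  · by_cases hki : k = i
    · subst hki; exact hφ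
    exfalso
    have := hlin (k.castLE (by norm_num)) (f i) (S k) fun h => (hrel h).trans (hφ _)
    rw [hzero k hki, V_lin] at this
    fin_cases k <;> simp [linCoef] at this
where
  isPrincipal : Cfsg.IsIrrCharacter G (fun _ : G => (1 : ℂ)) := Characters.isIrr_one

end Setup

end CfsgLib.TISylowThree
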