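import Mathlib

/-!
# The group of order `108` inside `S₃³`

`M` is the group of triples in `S₃³` with an even number of reflections.  We tabulate seven integral
class functions vanishing on the elements of order at most two.
-/

set_option autoImplicit false

namespace CfsgLib.TISylowThree

/-- `S₃`. -/
abbrev D := DihedralGroup 3

/-- The parity of an element of `S₃`. -/
def sgnHom : D →* ℤˣ where
  toFun
    | .r _ => 1
    | .sr _ => -1
  map_one' := rfl
  map_mul' := by decide

/-- The parity of a triple. -/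
def parity : D × D × D →* ℤˣ :=
  (sgnHom.comp (MonoidHom.fst D (D × D))) *
    ((sgnHom.comp ((MonoidHom.fst D D).comp (MonoidHom.snd D (D × D)))) *
      (sgnHom.comp ((MonoidHom.snd D D).comp (MonoidHom.snd D (D × D)))))

/-- Triples with an even number of reflections. -/
abbrev M : Type := ↥(parity.ker)

/-- The three projections. -/
def proj : Fin 3 → M →* D
  | 0 => (MonoidHom.fst D (D × D)).comp parity.ker.subtype
  | 1 => ((MonoidHom.fst D D).comp (MonoidHom.snd D (D × D))).comp parity.ker.subtype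
  | 2 => ((MonoidHom.snd D D).comp (MonoidHom.snd D (D × D))).comp parity.ker.subtype

/-- The permutation of three points given by an element of `S₃`. -/
def act : D →* Equiv.Perm (ZMod 3) where
  toFun
    | .r i => Equiv.addRight i
    | .sr i => (Equiv.neg (ZMod 3)).trans (Equiv.addRight (-i))
  map_one' := by decide
  map_mul' := by decide

/-- The character of degree two of `S₃`. -/
def chiTwo : D → ℤ
  | .r i => if i = 0 then 2 else -1
  | .sr _ => 0

theorem chiTwo_eq (d : D) :
    chiTwo d + 1 = ((Finset.univ.filter fun x => act d x = x).card : ℤ) := by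
  revert d; decide

/-- The linear characters. -/
def S (k : Fin 3) (m : M) : ℤ := (sgnHom (proj k m) : ℤ)

/-- The characters of degree two. -/
def X (k : Fin 3) (m : M) : ℤ := chiTwo (proj k m)

/-- The class functions `A₀₁, A₀₂, A₀₃, A₁₂, A₁₃, Y, Y'`. -/
def V : Fin 7 → M → ℤ
  | 0 => fun m => X 0 m - 1 - S 0 m
  | 1 => fun m => X 1 m - 1 - S 1 m
  | 2 => fun m => X 2 m - 1 - S 2 m
  | 3 => fun m => X 2 m * S 0 m - S 0 m - S 1 m
  | 4 => fun m => X 1 m * S 0 m - S 0 m - S 2 m
  | 5 => fun m => X 0 m * X 1 m - 1 - S 0 m - S 1 m - S 2 m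
  | 6 => fun m => X 0 m * X 2 m - 1 - S 0 m - S 1 m - S 2 m

/-- The Gram matrix. -/
def gram : Fin 7 → Fin 7 → ℤ :=
  ![![3, 1, 1, 1, 1, 2, 2], ![1, 3, 1, 1, 0, 2, 2], ![1, 1, 3, 0, 1, 2, 2],
    ![1, 1, 0, 3, 1, 2, 2], ![1, 0, 1, 1, 3, 2, 2], ![2, 2, 2, 2, 2, 5, 4],
    ![2, 2, 2, 2, 2, 4, 5]]

/-- The multiplicity of the principal character. -/
def trivCoef : Fin 7 → ℤ := ![-1, -1, -1, 0, 0, -1, -1]

/-- The multiplicities of the three non-trivial linear characters. -/
def linCoef : Fin 7 → Fin 3 → ℤ :=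
  ![![-1, 0, 0], ![0, -1, 0], ![0, 0, -1], ![-1, -1, 0], ![-1, 0, -1], ![-1, -1, -1], ![-1, -1, -1]]

/-- The inner products with the pair count of involutions. -/
def thetaCoef : Fin 7 → ℤ := ![-6, -6, -6, 0, 0, -9, -9]

/-- Pairs of involutions with product `m`. -/
def theta (m : M) : ℕ :=
  (Finset.univ.filter fun u : M => (u * u = 1 ∧ u ≠ 1) ∧ (u * m) * (u * m) = 1 ∧ u * m ≠ 1).card

set_option maxRecDepth 40000

theorem V_supp : ∀ (i : Fin 7) (m : M), m * m = 1 → V i m = 0 := by decide +kernel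

theorem V_gram : ∀ i j : Fin 7, ∑ m : M, V i m * V j m = 108 * gram i j := by decide +kernel

theorem V_triv : ∀ i : Fin 7, ∑ m : M, V i m = 108 * trivCoef i := by decide +kernel

theorem V_lin : ∀ (i : Fin 7) (k : Fin 3), ∑ m : M, V i m * S k m = 108 * linCoef i k := by
  decide +kernel

theorem V_theta : ∀ i : Fin 7, ∑ m : M, V i m * (theta m : ℤ) = 108 * thetaCoef i := by
  decide +kernel

theorem card_M : Fintype.card M = 108 := by decide +kernel

theorem card_rot : (Finset.univ.filter fun m : M => m ^ 3 = 1).card = 27 := by decide +kernel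

theorem rot_mul : ∀ m : M, m ^ 3 = 1 → ∀ n : M, n ^ 3 = 1 → m * n = n * m := by
  decide +kernel

theorem pow_six : ∀ m : M, m ^ 6 = 1 := by decide +kernel

theorem pow_27 : ∀ m : M, m ^ 27 = 1 → m ^ 3 = 1 := by decide +kernel

/-- The rotations are the common kernel of two of the linear characters. -/
theorem rot_of_sign : ∀ m : M, S 0 m = 1 → S 1 m = 1 → m ^ 3 = 1 := by decide +kernel

/-- The rotation in coordinate `k`. -/
def tau : Fin 3 → M
  | 0 => ⟨(.r 1, 1, 1), by decide⟩
  | 1 => ⟨(1, .r 1, 1), by decide⟩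
  | 2 => ⟨(1, 1, .r 1), by decide⟩

/-- Two involutions. -/
def flipA : M := ⟨(.sr 0, .sr 0, 1), by decide⟩

/-- Two involutions. -/
def flipB : M := ⟨(.sr 0, 1, .sr 0), by decide⟩

theorem word : ∀ m : M, ∃ a b c : Fin 3, ∃ d e : Fin 2,
    m = tau 0 ^ (a : ℕ) * tau 1 ^ (b : ℕ) * tau 2 ^ (c : ℕ) * flipA ^ (d : ℕ) * flipB ^ (e : ℕ) := by
  decide +kernel

theorem tau_comm : ∀ k : Fin 3, ∃ x : M, x * tau k * x⁻¹ * (tau k)⁻¹ = tau k := by decide +kernel

theorem S_gen : ∀ k : Fin 3, (∀ j, S k (tau j) = 1) ∧ flipA * flipA = 1 ∧ flipB * flipB = 1 ∧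
    S k flipA = (![-1, -1, 1] : Fin 3 → ℤ) k ∧ S k flipB = (![-1, 1, -1] : Fin 3 → ℤ) k := by
  decide +kernel

end CfsgLib.TISylowThree
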